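import Cfsg.Agent.H694.RG.EngP

/-!
# S3509, R2: families of `p'`-elements normalising a quasisimple group (helper607)

* `exists_gen_pp` : commuting elements of different prime orders `≠ p` fixed by `σ` are powers of an element of order
  prime to `p` fixed by `σ`;
* `dead_of_M` : a family of `p'`-elements of different prime orders normalising a dead quasisimple `M` never covers.
-/

set_option autoImplicit false
set_option linter.unusedSectionVars false
open Cfsg

namespace Cfsg.Agent.H607.R2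

open MulAction Subgroup Cfsg.Agent.H106.RC Cfsg.Agent.H327.RG Cfsg.Agent.H368.RG Cfsg.Agent.H873.RG Cfsg.Agent.H380.RC
  Cfsg.Agent.H694.RG
open Cfsg.Agent.H28.GenF (InD)
open scoped commutatorElement

/-- the members are powers of one `p'`-element -/
theorem exists_gen_pp {Y κ : Type*} [Group Y] [Finite κ] {σ : MulAut Y} {p : ℕ} (hp : p.Prime) {y : κ → Y} {r : κ → ℕ}
    (hy : PF y r) (hr : ∀ i, r i ≠ p) (hσ : ∀ i, σ (y i) = y i) :
    ∃ s : Y, σ s = s ∧ (∃ d : ℕ, d ≠ 0 ∧ d.Coprime p ∧ s ^ d = 1) ∧ ∀ i, ∃ n : ℕ, y i = s ^ n := by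
  classical
  have := Fintype.ofFinite κ
  obtain ⟨s, hs, hs1⟩ := exists_gen y r hy.prime hy.inj hy.pow hy.comm
  have hcc : ∀ a ∈ Subgroup.closure (Set.range y), ∀ c : Y, (∀ i, c * y i = y i * c) → c * a = a * c := by
    intro a ha c hc
    have h1 : Subgroup.closure (Set.range y) ≤ Subgroup.centralizer {c} := by
      rw [Subgroup.closure_le]
      rintro _ ⟨i, rfl⟩
      rw [SetLike.mem_coe, Subgroup.mem_centralizer_singleton_iff]
      exact (hc i).symm
    exact (Subgroup.mem_centralizer_singleton_iff.1 (h1 ha)).symm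
  have hpw : ∀ a ∈ Subgroup.closure (Set.range y), a ^ (∏ i : κ, r i) = 1 := by
    intro a ha
    induction ha using Subgroup.closure_induction with
    | mem z hz =>
      obtain ⟨i, rfl⟩ := hz
      obtain ⟨k, hk⟩ := Finset.dvd_prod_of_mem (fun i : κ => r i) (Finset.mem_univ i)
      rw [hk, pow_mul, hy.pow, one_pow]
    | one => exact one_pow _
    | mul a b ha hb iha ihb =>
      have h1 : Commute a b := hcc b hb a fun i => (hcc a ha (y i) fun j => hy.comm i j).symm
      rw [h1.mul_pow, iha, ihb, mul_one]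
    | inv a _ iha => rw [inv_pow, iha, inv_one]
  have hfix : ∀ a ∈ Subgroup.closure (Set.range y), σ a = a := by
    intro a ha
    induction ha using Subgroup.closure_induction with
    | mem z hz =>
      obtain ⟨i, rfl⟩ := hz
      exact hσ i
    | one => exact map_one σ
    | mul a b _ _ iha ihb => rw [map_mul, iha, ihb]
    | inv a _ iha => rw [map_inv, iha]
  have hd0 : (∏ i : κ, r i) ≠ 0 := Finset.prod_ne_zero_iff.2 fun i _ => (hy.prime i).ne_zero
  refine ⟨s, hfix s hs, ⟨∏ i : κ, r i, hd0, ?_, hpw s hs⟩, fun i => ?_⟩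
  · exact Nat.Coprime.prod_left fun i _ => (Nat.coprime_primes (hy.prime i) hp).2 (hr i)
  · have h2 : IsOfFinOrder s := isOfFinOrder_iff_pow_eq_one.2 ⟨_, Nat.pos_of_ne_zero hd0, hpw s hs⟩
    obtain ⟨n, hn⟩ := h2.mem_powers_iff_mem_zpowers.2 (hs1 i)
    exact ⟨n, hn.symm⟩

section Y

variable {G Ω : Type} [Group G] [Finite G] [MulAction G Ω] {N : Subgroup G} {Y K₀ : Type} [Group Y] [Group K₀]
  {ι : K₀ →* Y} {σ : MulAut Y} (hF : Fr ι σ) {p : ℕ} (hE : Env G Ω N) (e : N ≃* K₀)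

/-- a quasisimple subgroup -/
structure GoodY (ι : K₀ →* Y) (M : Subgroup Y) : Prop where
  le : M ≤ ι.range
  ne : M ≠ ι.range
  perf : ⁅M, M⁆ = M
  quot : ∃ (S' : Type) (_ : Group S') (_ : Finite S') (π : M →* S'),
    Function.Surjective π ∧ π.ker ≤ Subgroup.center M ∧ NSA S'

include hF in
theorem goodY {M : Subgroup Y} (h : GoodY ι M) : Good N (lf e ι M) := by
  obtain ⟨hMN, hMne, hperf, S', i1, i2, π, hπ, hker, hNSA⟩ := h
  refine ⟨lf_le M, ?_, ?_, ⟨S', i1, i2, π.comp (lfEquiv e hF.inj hMN).toMonoidHom, ?_, ?_, hNSA⟩⟩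
  · intro hN
    apply hMne
    refine le_antisymm hMN ?_
    rintro _ ⟨a, rfl⟩
    have h1 : (e.symm a : G) ∈ lf e ι M := by rw [hN]; exact (e.symm a).2
    obtain ⟨b, hb, hab⟩ := mem_lf.1 h1
    have h2 : b = a := e.symm.injective (Subtype.ext hab)
    rwa [h2] at hb
  · exact perfect_equiv (lfEquiv e hF.inj hMN) hperf
  · exact hπ.comp (lfEquiv e hF.inj hMN).surjective
  · intro m hm
    have h1 : lfEquiv e hF.inj hMN m ∈ π.ker := hm
    have h2 := hker h1
    rw [mem_center_iff] at h2 ⊢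
    intro m'
    apply (lfEquiv e hF.inj hMN).injective
    rw [map_mul, map_mul]
    exact h2 _

include hF in
/-- **Families of `p'`-elements normalising `M`.** -/
theorem dead_of_M [Finite K₀] [Nonempty Ω] (hIH : IHx (Nat.card K₀)) {M : Subgroup Y} (hM : GoodY ι M)
    (hdead : DeadY ι p M) {κ : Type} [Finite κ] {x : κ → G} {y : κ → Y} {r : κ → ℕ} (hx : PF x r) (hcov : Cov Ω x)
    (hr : ∀ i, r i ≠ p) (hrep : ∀ i, Rep hE e ι (x i) (y i)) (hn : ∀ i, y i ∈ Subgroup.normalizer (M : Set Y)) :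
    False := by
  have hG := goodY hF e hM
  obtain ⟨S', _, _, π, hπ, hker, hNSA⟩ := hG.quot
  have h1 : ∀ ω : Ω, lf e ι M ≤ stabilizer G ω ∨ ∃ j, (∀ m ∈ lf e ι M, x j * m = m * x j) ∧ x j • ω = ω :=
    fun ω => mrule_IHx hIH e hG.le hG.ne hG.perf π hπ hker hNSA hx hcov
      (fun i => Rep.normalizer hF hE e hM.le (hrep i) (hn i)) ω
  refine hdead G Ω N hE e {j // ∀ m ∈ lf e ι M, x j * m = m * x j} (fun j => x j)
    (fun j => ⟨⟨⟨_, hrep j⟩, hx.ne j, r j, hx.prime j, hr j, hx.pow j⟩, j.2⟩) (fun i j => hx.comm i j) (fun ω => ?_)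
  rcases h1 ω with h | ⟨j, hj, h⟩
  · exact Or.inl h
  · exact Or.inr ⟨⟨j, hj⟩, h⟩

include hF in
/-- **Families of `p'`-elements with a useful member.** -/
theorem dead_of_UsY [Finite K₀] [Nonempty Ω] (hIH : IHx (Nat.card K₀)) {κ : Type} [Finite κ] {x : κ → G} {y : κ → Y}
    {r : κ → ℕ} (hx : PF x r) (hcov : Cov Ω x) (hr : ∀ i, r i ≠ p) (hrep : ∀ i, Rep hE e ι (x i) (y i)) {M : Subgroup Y}
    {i₀ : κ} (hM : UsY ι (fixedSubgroup σ) p M (y i₀)) : False := by
  have hU : UsBy Ω N (DG hE e ι) p (lf e ι M) (x i₀) := usBy hF hE e (hrep i₀) hM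
  have hD : ∀ i, x i ∈ DG hE e ι := fun i => ⟨y i, hrep i⟩
  exact case_dropW e hIH hx hcov hD hU.good (fun i => hx.comm i i₀) hU.dead (fun i => norm_allW hx hD hU i)
    fun i _ => hr i

end Y

end Cfsg.Agent.H607.R2
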