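import Cfsg.Agent.H607.R2.InK
import Cfsg.Agent.H115.R2.TopR
import Cfsg.Agent.H169.RG.BoxU
import Cfsg.Agent.H24.MX.M4
import Cfsg.Agent.H520.MX.Fin2
import Cfsg.Agent.H452.TD.YData

/-!
# S3509, R2: the quasisimple groups over the Levi sets of `E₆` (helper607)

* `mpsi` : `MPsiInput m (LR m)`;
* `inK_six` : `InK m.ι` for `E₆`, `²E₆` (input: `NineInput m`).
-/

set_option autoImplicit false
set_option linter.unusedSectionVars false
open Cfsg

namespace Cfsg.Agent.H607.R2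

open CoxeterSystem Cfsg Cfsg.Lie Cfsg.Lie.ChevalleyDatum
open Cfsg.Agent.ChevalleyStructure Cfsg.Agent.ChevalleyStructure.Elts Cfsg.Agent.ChevalleyStructure.CoxeterGeom
  Cfsg.Agent.ChevalleyStructure.CoxeterGeomTypes Cfsg.Agent.ChevalleyStructure.NPerm
open Cfsg.Agent.Tits.Roots Cfsg.Agent.Tits.Core Cfsg.Agent.Nodes Cfsg.Agent.Nodes.Reps Cfsg.Agent.Nodes.BNOf
  Cfsg.Agent.Nodes.RGDChev
open Cfsg.Agent.H469.Exc Cfsg.Agent.H316.U6
open Cfsg.Agent.H873.RG (IHx)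
open Cfsg.Agent.H169.RG (LR TorForm SizeOK Gam exists_MPsi)
open Cfsg.Agent.H520.MX (M4 h46_E)

variable {M : CoxeterMatrix (Fin 6)} {hp : IsType chevE6 6 M} {r q : ℕ} [hr : Fact r.Prime]

/-- some root is outside a Levi set -/
theorem exists_not_LS (v : M.Group) {s : ℕ} (hs : s < 3) :
    ∃ a, IsRoot M.toCoxeterSystem hp.isCartan a ∧ a ∉ LS hp M.toCoxeterSystem v s := by
  have key : ∃ i, sd s (sr i) ≠ 0 := by
    interval_cases s <;> decide
  obtain ⟨i, hi⟩ := key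
  refine ⟨rep M.toCoxeterSystem hp.isCartan v⁻¹ (sr i), (isRoot_sr M.toCoxeterSystem hp.isCartan i).act _, fun h => hi ?_⟩
  have h1 := h.2
  rwa [← rep_mul_apply, mul_inv_cancel, map_one, Module.End.one_apply] at h1

section

variable {K₀ : Type} [Group K₀]

/-- **`MPsiInput`.** -/
theorem mpsi (m : MData hp r q K₀) : MPsiInput m (LR m) := by
  intro v s hs z n t θ hn d hSx hPP
  have := finite_W hp M.toCoxeterSystem
  obtain ⟨β, Bβ, hlong, h8⟩ := H115.R2.exists_top hp r hs v (θ := θ) d.fr.root hSx d.stab d.pos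
  have hQ : SizeOK q (Gam hp t β).ncard := by
    refine ⟨fun _ => le_trans (by norm_num) h8, fun _ => le_trans (by norm_num) h8⟩
  obtain ⟨N, h1, h2, h3, h4, -, h5, -, h6⟩ := exists_MPsi hn d Bβ hlong hQ (by
    rw [hSx]
    exact exists_not_LS v hs)
  refine ⟨N, ⟨h1, h2, h3, h4⟩, h5 fun w hw => ?_, h6⟩
  rw [hPP w hw.1 hw.2, map_one, Module.End.one_apply]

/-- **The inner part of the rows `E₆`, `²E₆`.** -/
theorem inK_six [Finite K₀] [IsSimpleGroup K₀] (m : MData hp r q K₀) (hF : H327.RG.Fr m.ι m.σ)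
    (hNine : IHx (Nat.card K₀) → NineInput m) : H268.RX.InK m.ι := by
  intro hIH
  obtain ⟨U, hYD⟩ := H452.TD.ydata_E6 m
  obtain ⟨h4, h6⟩ := h46_E (by decide +kernel) hp
  exact inK_R2 m hF hYD (mpsi m) (hNine hIH) (H24.MX.m4_E (by decide +kernel) m)
    (Cfsg.Agent.H520.MX.hM3_all m h4 h6) hIH

end

end Cfsg.Agent.H607.R2
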