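import Cfsg.Agent.H550.RG.CntD
import Cfsg.Agent.H808.R2.NineA

/-!
# S3509, R2: the torus with `1 ± θ³ + θ⁶ = 0`, regular members (helper607)

* `nine_num` : the numbers;
* `nine_tor` : `|T^α| ≤ q⁶ + q³ + 1`; `nine_WF` : at most `72` elements of `W` commute with `θ`;
* `bInput` : a family of regular members never covers.
-/

set_option autoImplicit false
set_option linter.unusedSectionVars false
open Cfsg

namespace Cfsg.Agent.H607.R2

/-! ### numbers -/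

theorem sq_le_two_pow (k : ℕ) : k ^ 2 ≤ 2 * 2 ^ k := by
  induction k with
  | zero => norm_num
  | succ k ih =>
    rcases Nat.lt_or_ge k 3 with h | h
    · interval_cases k <;> norm_num
    · have h1 : 2 ^ (k + 1) = 2 * 2 ^ k := by rw [pow_succ]; ring
      rw [h1]
      nlinarith

/-- distinct prime divisors -/
theorem two_pow_card_le {κ : Type} [Fintype κ] {rr : κ → ℕ} (hp : ∀ i, (rr i).Prime) (hinj : Function.Injective rr)
    {τ : ℕ} (hτ : 0 < τ) (hd : ∀ i, rr i ∣ τ) : 2 ^ Fintype.card κ ≤ τ := by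
  classical
  have h1 : ∏ i, rr i ∣ τ := by
    have h2 := Finset.prod_primes_dvd (s := Finset.univ.image rr) τ
      (fun a ha => by
        obtain ⟨i, -, rfl⟩ := Finset.mem_image.1 ha
        exact (hp i).prime)
      (fun a ha => by
        obtain ⟨i, -, rfl⟩ := Finset.mem_image.1 ha
        exact hd i)
    rwa [Finset.prod_image fun i _ j _ h => hinj h] at h2
  refine le_trans ?_ (Nat.le_of_dvd hτ h1)
  have h2 : ∏ _i : κ, 2 ≤ ∏ i, rr i := Finset.prod_le_prod' fun i _ => (hp i).two_le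
  rwa [Finset.prod_const, Finset.card_univ] at h2

/-- **The numbers.** -/
theorem nine_num {q d τ k : ℕ} (hq : 2 ≤ q) (hd : q ^ 5 * (q ^ 6 - q ^ 3 + 1) ≤ d) (hτ : τ ≤ q ^ 6 + q ^ 3 + 1)
    (hk : 2 ^ k ≤ τ) : (k : ℝ) * (1 / ((d : ℝ) + 1) + √((72 * τ : ℕ) : ℝ) / d) < 1 := by
  have hq3 : 8 ≤ q ^ 3 := by
    calc 8 = 2 ^ 3 := by norm_num
      _ ≤ q ^ 3 := Nat.pow_le_pow_left hq 3
  have hq6 : q ^ 6 = q ^ 3 * q ^ 3 := by ring
  have hτ2 : τ ≤ 2 * q ^ 6 := by nlinarith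
  have hk1 : k ≤ 2 * q ^ 3 := by
    have h1 := sq_le_two_pow k
    have h2 : k ^ 2 ≤ (2 * q ^ 3) ^ 2 := by
      have h3 : (2 * q ^ 3) ^ 2 = 4 * q ^ 6 := by ring
      omega
    exact (Nat.pow_le_pow_iff_left (by norm_num)).1 h2
  have hs : √((72 * τ : ℕ) : ℝ) ≤ 12 * (q : ℝ) ^ 3 := by
    rw [Real.sqrt_le_left (by positivity)]
    have h3 : (72 * τ : ℕ) ≤ 144 * q ^ 6 := by omega
    calc ((72 * τ : ℕ) : ℝ) ≤ ((144 * q ^ 6 : ℕ) : ℝ) := by exact_mod_cast h3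
      _ = (12 * (q : ℝ) ^ 3) ^ 2 := by push_cast; ring
  have hd1 : 26 * q ^ 6 < d := by
    refine lt_of_lt_of_le ?_ hd
    rcases Nat.lt_or_ge q 3 with h | h
    · have : q = 2 := by omega
      subst this
      norm_num
    · have h4 : 27 ≤ q ^ 3 := by
        calc 27 = 3 ^ 3 := by norm_num
          _ ≤ q ^ 3 := Nat.pow_le_pow_left h 3
      have h5 : q ≤ q ^ 3 := by
        calc q = q ^ 1 := (pow_one q).symm
          _ ≤ q ^ 3 := Nat.pow_le_pow_right (by omega) (by norm_num)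
      have h6 : 26 * q < q ^ 6 - q ^ 3 + 1 := by
        have h7 : 27 * q ^ 3 ≤ q ^ 6 := by rw [hq6]; exact Nat.mul_le_mul_right _ h4
        omega
      calc 26 * q ^ 6 = q ^ 5 * (26 * q) := by ring
        _ < q ^ 5 * (q ^ 6 - q ^ 3 + 1) := Nat.mul_lt_mul_of_pos_left h6 (by positivity)
  have hd0 : (0 : ℝ) < d := by
    have : 0 < d := by omega
    exact_mod_cast this
  have hq3' : (8 : ℝ) ≤ (q : ℝ) ^ 3 := by exact_mod_cast hq3
  have h1 : 1 / ((d : ℝ) + 1) + √((72 * τ : ℕ) : ℝ) / d ≤ (1 + 12 * (q : ℝ) ^ 3) / d := by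
    rw [add_div]
    refine add_le_add ?_ (div_le_div_of_nonneg_right hs hd0.le)
    exact one_div_le_one_div_of_le hd0 (by linarith)
  have hk2 : (k : ℝ) ≤ 2 * (q : ℝ) ^ 3 := by exact_mod_cast hk1
  calc (k : ℝ) * (1 / ((d : ℝ) + 1) + √((72 * τ : ℕ) : ℝ) / d)
      ≤ (2 * (q : ℝ) ^ 3) * ((1 + 12 * (q : ℝ) ^ 3) / d) :=
        mul_le_mul hk2 h1 (by positivity) (by positivity)
    _ = (2 * (q : ℝ) ^ 3 * (1 + 12 * (q : ℝ) ^ 3)) / d := by ring
    _ < 1 := by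
      rw [div_lt_one hd0]
      have h7 : (26 * (q : ℝ) ^ 6) < d := by exact_mod_cast hd1
      have h8 : (q : ℝ) ^ 6 = (q : ℝ) ^ 3 * (q : ℝ) ^ 3 := by ring
      nlinarith

section tor

open CoxeterSystem Cfsg Cfsg.Lie Cfsg.Lie.ChevalleyDatum
open Cfsg.Agent.ChevalleyStructure Cfsg.Agent.ChevalleyStructure.Elts Cfsg.Agent.ChevalleyStructure.CoxeterGeom
  Cfsg.Agent.ChevalleyStructure.CoxeterGeomTypes Cfsg.Agent.ChevalleyStructure.NPerm
open Cfsg.Agent.Tits.Roots Cfsg.Agent.Tits.Core Cfsg.Agent.Nodes Cfsg.Agent.Nodes.Reps Cfsg.Agent.Nodes.BNOf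
  Cfsg.Agent.Nodes.RGDChev
open Cfsg.Agent.KFacts.RgdField Cfsg.Agent.KFacts.RgdChevCoord
open Cfsg.Agent.BpExc Cfsg.Agent.BpExc.TorCent Cfsg.Agent.BpExc.TorChev Cfsg.Agent.BpExc.Tow
  Cfsg.Agent.BpExc.TowChev Cfsg.Agent.BpExc.Fr Cfsg.Agent.BpExc.Pair Cfsg.Agent.BpExc.LangFr
open Cfsg.Agent.H469.Exc Cfsg.Agent.H316.U6 Cfsg.Agent.H169.RG Cfsg.Agent.H129.TorusChar
open MulAction Cfsg.Agent.H106.RC Cfsg.Agent.H368.RG Cfsg.Agent.H873.RG Cfsg.Agent.H694.RG
open Cfsg.Agent.H550.RG (WF rep_theta_all)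

variable {M : CoxeterMatrix (Fin 6)} {hp : IsType chevE6 6 M} {r q : ℕ} [hr : Fact r.Prime] {K₀ : Type} [Group K₀]
  {m : MData hp r q K₀} {s : ↥(chevE6.group (KK r))}

/-- the number of roots -/
theorem ncard_roots_le {W : Type*} [Group W] (cs : CoxeterSystem M W) :
    {a | IsRoot cs hp.isCartan a}.ncard ≤ 72 := by
  have := finite_W hp cs
  have h1 : {a | IsRoot cs hp.isCartan a} = (fun i : ℕ => vec chevE6 6 i) '' Set.Iio 72 := by
    ext a
    rw [Set.mem_ofPred_eq, isRoot_iff hp cs]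
    exact ⟨fun ⟨i, h, e⟩ => ⟨i, h, e⟩, fun ⟨i, h, e⟩ => ⟨i, h, e⟩⟩
  rw [h1]
  refine (Set.ncard_image_le (Set.finite_Iio 72)).trans (le_of_eq ?_)
  rw [Set.ncard_eq_toFinset_card']
  simp

/-- **The elements of `W` commuting with `θ`.** -/
theorem nine_WF (t : ↥(chevE6.group (KK r))) {θ : (Fin 6 → ℤ) ≃+ (Fin 6 → ℤ)} {a₀ : Fin 6 → ℤ}
    (ha₀ : IsRoot M.toCoxeterSystem hp.isCartan a₀)
    (hgen : ∀ B : AddSubgroup (Fin 6 → ℤ), (∀ x ∈ B, θ x ∈ B) → a₀ ∈ B → B = ⊤) :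
    Nat.card ↥(WF M.toCoxeterSystem hp.isCartan (ch hp) t θ) ≤ 72 := by
  have := finite_W hp M.toCoxeterSystem
  have hfin := RGD.finite_roots (cs := M.toCoxeterSystem) (h := hp.isCartan)
  have : Finite {a // IsRoot M.toCoxeterSystem hp.isCartan a} := hfin
  refine le_trans ?_ (ncard_roots_le (hp := hp) M.toCoxeterSystem)
  refine Nat.card_le_card_of_injective (β := {a // IsRoot M.toCoxeterSystem hp.isCartan a})
    (fun w => ⟨rep M.toCoxeterSystem hp.isCartan w a₀, ha₀.act _⟩) ?_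
  rintro ⟨w, hw⟩ ⟨w', hw'⟩ h
  have h1 : rep M.toCoxeterSystem hp.isCartan w a₀ = rep M.toCoxeterSystem hp.isCartan w' a₀ := congrArg Subtype.val h
  have hB := hgen (((rep M.toCoxeterSystem hp.isCartan w).toAddMonoidHom -
    (rep M.toCoxeterSystem hp.isCartan w').toAddMonoidHom).ker) (fun x hx => ?_) ?_
  · apply Subtype.ext
    refine rep_injective M.toCoxeterSystem hp.isCartan (LinearMap.ext fun x => ?_)
    have h2 : x ∈ ((rep M.toCoxeterSystem hp.isCartan w).toAddMonoidHom -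
      (rep M.toCoxeterSystem hp.isCartan w').toAddMonoidHom).ker := by rw [hB]; trivial
    exact sub_eq_zero.1 h2
  · have h2 : rep M.toCoxeterSystem hp.isCartan w x - rep M.toCoxeterSystem hp.isCartan w' x = 0 := hx
    show rep M.toCoxeterSystem hp.isCartan w (θ x) - rep M.toCoxeterSystem hp.isCartan w' (θ x) = 0
    rw [rep_theta_all hw, rep_theta_all hw', sub_eq_zero.1 h2, sub_self]
  · show rep M.toCoxeterSystem hp.isCartan w a₀ - rep M.toCoxeterSystem hp.isCartan w' a₀ = 0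
    rw [h1, sub_self]

/-- the map `t ↦ cX t a₀` -/
theorem nine_inj {α : MulAut ↥(chevE6.group (KK r))} {θ : (Fin 6 → ℤ) ≃+ (Fin 6 → ℤ)} {e : ℕ} (frob : IsFrob r e α)
    (fr : Fr M.toCoxeterSystem hp.isCartan (TT chevE6 (KK r)) (XX chevE6 6 (KK r)) α θ) {a₀ : Fin 6 → ℤ}
    (hgen : ∀ B : AddSubgroup (Fin 6 → ℤ), (∀ x ∈ B, θ x ∈ B) → a₀ ∈ B → B = ⊤) {s t : ↥(chevE6.group (KK r))}
    (hs : s ∈ TT chevE6 (KK r)) (ht : t ∈ TT chevE6 (KK r)) (hsα : α s = s) (htα : α t = t)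
    (h : cX hp s a₀ = cX hp t a₀) : s = t := by
  have h1 := isMC_cX hp hs
  have h2 := isMC_cX hp ht
  have hB := hgen
    { carrier := {x | cX hp s x = cX hp t x}
      zero_mem' := by rw [Set.mem_ofPred_eq, h1.zero, h2.zero]
      add_mem' := fun {x y} hx hy => by
        rw [Set.mem_ofPred_eq] at hx hy ⊢
        rw [h1.add, h2.add, hx, hy]
      neg_mem' := fun {x} hx => by
        rw [Set.mem_ofPred_eq] at hx ⊢
        rw [h1.neg, h2.neg, hx] } (fun x hx => ?_) h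
  · refine cX_inj hp hs ht fun i => ?_
    have h3 : (sr i : Fin 6 → ℤ) ∈ (⊤ : AddSubgroup (Fin 6 → ℤ)) := trivial
    rw [← hB] at h3
    exact h3
  · have e1 := cX_sigma hp M.toCoxeterSystem frob fr hs x
    have e2 := cX_sigma hp M.toCoxeterSystem frob fr ht x
    rw [hsα] at e1
    rw [htα] at e2
    show cX hp s (θ x) = cX hp t (θ x)
    rw [e1, e2]
    exact congrArg (· ^ r ^ e) hx

/-- **The torus.** -/
theorem nine_tor {α : MulAut ↥(chevE6.group (KK r))} {θ : (Fin 6 → ℤ) ≃+ (Fin 6 → ℤ)} {e : ℕ} (frob : IsFrob r e α)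
    (he : 0 < e)
    (fr : Fr M.toCoxeterSystem hp.isCartan (TT chevE6 (KK r)) (XX chevE6 6 (KK r)) α θ) {a₀ : Fin 6 → ℤ}
    (h9 : (∀ a, a + θ (θ (θ a)) + θ (θ (θ (θ (θ (θ a))))) = 0) ∨
      (∀ a, a - θ (θ (θ a)) + θ (θ (θ (θ (θ (θ a))))) = 0))
    (hgen : ∀ B : AddSubgroup (Fin 6 → ℤ), (∀ x ∈ B, θ x ∈ B) → a₀ ∈ B → B = ⊤) :
    Finite ↥(TT chevE6 (KK r) ⊓ fixedSubgroup α) ∧
      Nat.card ↥(TT chevE6 (KK r) ⊓ fixedSubgroup α) ≤ (r ^ e) ^ 6 + (r ^ e) ^ 3 + 1 := by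
  classical
  obtain ⟨Q, hQ⟩ : ∃ Q, Q = r ^ e := ⟨_, rfl⟩
  have hQ1 : 1 < Q := by rw [hQ]; exact Nat.one_lt_pow he.ne' hr.out.one_lt
  -- the values of the character
  have key : ∃ N : ℕ, 0 < N ∧ N ≤ Q ^ 6 + Q ^ 3 + 1 ∧ ∀ t ∈ TT chevE6 (KK r), α t = t → cX hp t a₀ ^ N = 1 := by
    have hth : ∀ t ∈ TT chevE6 (KK r), α t = t → ∀ x, cX hp t (θ x) = cX hp t x ^ Q := by
      intro t ht htα x
      have e1 := cX_sigma hp M.toCoxeterSystem frob fr ht x
      rwa [htα, ← hQ] at e1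
    have h3 : ∀ t ∈ TT chevE6 (KK r), α t = t → ∀ x, cX hp t (θ (θ (θ x))) = cX hp t x ^ Q ^ 3 := by
      intro t ht htα x
      rw [hth t ht htα, hth t ht htα, hth t ht htα, ← pow_mul, ← pow_mul]
      congr 1
      ring
    have h6 : ∀ t ∈ TT chevE6 (KK r), α t = t → ∀ x, cX hp t (θ (θ (θ (θ (θ (θ x)))))) = cX hp t x ^ Q ^ 6 := by
      intro t ht htα x
      rw [h3 t ht htα, h3 t ht htα, ← pow_mul]
      congr 1
      ring
    rcases h9 with h9 | h9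
    · refine ⟨Q ^ 6 + Q ^ 3 + 1, by positivity, le_rfl, fun t ht htα => ?_⟩
      have hM := isMC_cX hp ht
      have e1 := congrArg (cX hp t) (h9 a₀)
      rw [hM.add, hM.add, hM.zero, h3 t ht htα, h6 t ht htα] at e1
      rw [pow_add, pow_add, pow_one, ← e1]
      ring
    · have hlt : Q ^ 3 ≤ Q ^ 6 := Nat.pow_le_pow_right (by omega) (by norm_num)
      refine ⟨Q ^ 6 - Q ^ 3 + 1, by omega, by omega, fun t ht htα => ?_⟩
      have hM := isMC_cX hp ht
      have e1 := congrArg (cX hp t) (h9 a₀)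
      rw [hM.add, hM.sub, hM.zero, h3 t ht htα, h6 t ht htα] at e1
      have hne := hM.ne_zero a₀
      have e2 : cX hp t a₀ ^ (Q ^ 6 - Q ^ 3 + 1) * cX hp t a₀ ^ Q ^ 3 = cX hp t a₀ ^ Q ^ 3 := by
        rw [← pow_add, show Q ^ 6 - Q ^ 3 + 1 + Q ^ 3 = Q ^ 6 + 1 by omega, pow_succ]
        have e3 : cX hp t a₀ ^ Q ^ 3 ≠ 0 := pow_ne_zero _ hne
        field_simp at e1
        linear_combination e1
      exact mul_eq_right₀ (pow_ne_zero _ hne) |>.1 e2
  obtain ⟨N, hN0, hN, hroot⟩ := key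
  let S : Set (KK r) := {x | x ^ N = 1}
  have hS : S = ↑(Polynomial.nthRoots N (1 : KK r)).toFinset := by
    ext x
    rw [Finset.mem_coe, Multiset.mem_toFinset, Polynomial.mem_nthRoots hN0]
    exact Iff.rfl
  have hSf : S.Finite := by rw [hS]; exact Finset.finite_toSet _
  have hSc : S.ncard ≤ N := by
    rw [hS, Set.ncard_coe_finset]
    exact (Multiset.toFinset_card_le _).trans (Polynomial.card_nthRoots N 1)
  have : Finite S := hSf
  let φ : ↥(TT chevE6 (KK r) ⊓ fixedSubgroup α) → S := fun t => ⟨cX hp (t : ↥(chevE6.group (KK r))) a₀,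
    hroot _ t.2.1 t.2.2⟩
  have hφ : Function.Injective φ := by
    rintro ⟨t, ht⟩ ⟨t', ht'⟩ h
    exact Subtype.ext (nine_inj (hp := hp) frob fr hgen ht.1 ht'.1 ht.2 ht'.2 (congrArg Subtype.val h))
  refine ⟨Finite.of_injective φ hφ, ?_⟩
  rw [← hQ]
  exact (Nat.card_le_card_of_injective φ hφ).trans (hSc.trans hN)

/-- **A family of regular members never covers.** -/
theorem bInput [Finite K₀] (m : MData hp r q K₀) (hF : Cfsg.Agent.H327.RG.Fr m.ι m.σ) {d : ℕ}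
    (hd : Cfsg.Agent.H514.DP.MinDeg K₀ d) (hdq : q ^ 5 * (q ^ 6 - q ^ 3 + 1) ≤ d) : H808.R2.BInput m := by
  intro G Ω _ _ _ _ _ N hE e κ _ x y rr hx hcov hrep g f hpow hreg a₀ h9 ha₀ hgen
  have := finite_W hp M.toCoxeterSystem
  have := m.fin
  have hyPF : PF y rr := pf_rep hF hE e hrep hx
  have hyσ : ∀ i, m.σ (y i) = y i := fun i => Rep.fix hF (hrep i)
  have := Fintype.ofFinite κ
  have hq2 : 2 ≤ q := by
    rw [← m.hq]
    exact Nat.one_lt_pow m.he.ne' hr.out.one_lt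
  obtain ⟨hfin, hτ⟩ := nine_tor (hp := hp) f.frob m.he f.fr h9 hgen
  rw [m.hq] at hτ
  obtain ⟨τ, hτe⟩ : ∃ τ, τ = Nat.card ↥(TT chevE6 (KK r) ⊓ fixedSubgroup (MulAut.conj f.n * m.σ)) := ⟨_, rfl⟩
  rw [← hτe] at hτ
  have hτ0 : 0 < τ := by
    rw [hτe]
    exact Nat.card_pos
  have ht : ∀ i, f.z⁻¹ * y i * f.z ∈ TT chevE6 (KK r) := by
    intro i
    obtain ⟨k, hk⟩ := hpow i
    have h2 : f.z⁻¹ * y i * f.z = f.t ^ k := by
      have h3 : g ^ k = f.z * f.t ^ k * f.z⁻¹ := (congrArg (fun a => a ^ k) f.eq).trans conj_pow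
      rw [hk, h3]
      group
    rw [h2]
    exact pow_mem f.mem k
  have hfix : ∀ i, (MulAut.conj f.n * m.σ) (f.z⁻¹ * y i * f.z) = f.z⁻¹ * y i * f.z := by
    intro i
    rw [f.conj, hyσ]
  -- the members divide the order of the torus
  have hdvd : ∀ i, rr i ∣ τ := by
    intro i
    have h1 : (⟨f.z⁻¹ * y i * f.z, ht i, hfix i⟩ :
        ↥(TT chevE6 (KK r) ⊓ fixedSubgroup (MulAut.conj f.n * m.σ))) ^ rr i = 1 := by
      apply Subtype.ext
      show (f.z⁻¹ * y i * f.z) ^ rr i = 1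
      have h2 := conj_pow (a := f.z⁻¹) (b := y i) (i := rr i)
      rw [inv_inv] at h2
      rw [h2, hyPF.pow]
      group
    have h2 : (⟨f.z⁻¹ * y i * f.z, ht i, hfix i⟩ :
        ↥(TT chevE6 (KK r) ⊓ fixedSubgroup (MulAut.conj f.n * m.σ))) ≠ 1 := by
      intro h
      have h3 : f.z⁻¹ * y i * f.z = 1 := congrArg Subtype.val h
      apply hyPF.ne i
      calc y i = f.z * (f.z⁻¹ * y i * f.z) * f.z⁻¹ := by group
        _ = 1 := by rw [h3]; group
    have : Fact (rr i).Prime := ⟨hx.prime i⟩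
    rw [hτe, ← orderOf_eq_prime h1 h2]
    exact orderOf_dvd_natCard _
  have hk : 2 ^ Fintype.card κ ≤ τ := two_pow_card_le hx.prime hx.inj hτ0 hdvd
  have hd0 : 0 < d := by
    refine lt_of_lt_of_le ?_ hdq
    positivity
  refine not_cov_sum hF hE e hd0 hd (c := fun _ => 72 * τ) hrep (fun i => ?_) ?_ hcov
  · let fi : TorForm m (y i) :=
      { z := f.z, n := f.n, t := f.z⁻¹ * y i * f.z, w := f.w, θ := f.θ
        eq := by group
        lang := f.lang, mem := ht i, rp := f.rp, hθ := f.hθ, frob := f.frob, fr := f.fr, fix := hfix i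
        stab := fun a => by
          rw [hreg i]
          exact ⟨fun h => absurd h (Set.notMem_empty _), fun h => absurd h (Set.notMem_empty _)⟩
        pos := fun a ha => by
          rw [hreg i] at ha
          exact absurd ha (Set.notMem_empty _)
        conj := f.conj }
    have h1 := H550.RG.tor_le_WF fi
    have h2 : H28.RG.SP M.toCoxeterSystem hp.isCartan (ch hp) fi.t = ∅ := by
      ext a
      refine ⟨fun h => ?_, fun h => absurd h (Set.notMem_empty _)⟩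
      have h3 : a ∈ Sx M.toCoxeterSystem hp.isCartan (ch hp) (f.z⁻¹ * y i * f.z) := h.1
      rw [hreg i] at h3
      exact h3
    have h3 := nine_WF (hp := hp) fi.t (θ := fi.θ) ha₀ hgen
    have h4 : Nat.card ↥(TT chevE6 (KK r) ⊓ fixedSubgroup fi.α) = τ := hτe.symm
    rw [h2, Set.ncard_empty, Nat.mul_zero, pow_zero, Nat.mul_one, h4] at h1
    have h5 : fixedSubgroup m.σ ⊓ Subgroup.centralizer {y i} = fixC m.σ (y i) := by
      ext c
      rw [Subgroup.mem_inf, Subgroup.mem_centralizer_singleton_iff, mem_fixC]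
      exact Iff.rfl
    rw [h5]
    exact h1.trans (Nat.mul_le_mul_right _ h3)
  · rw [Finset.sum_const, Finset.card_univ, nsmul_eq_mul]
    exact nine_num hq2 hdq hτ hk

end tor

end Cfsg.Agent.H607.R2
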