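import Cfsg.Agent.H378.WL.E6
import Cfsg.Agent.H316.U6Model

/-!
# S3509, R2: the W-lemma for `E₆`, `²E₆` with standard Levi subsystems (helper607)

`sd s`, `s : Fin 3` : the coefficient of the fundamental root `6` (`D₅`), `2` (`A₅`), the sum of the coefficients of `1` and
`6` (`D₄`).  `exists_lev` : every `w` is conjugate to an element preserving one of the three systems `sd s = 0`, or
`1 + w³ + w⁶ = 0`.  `theta_lev` : the same for `θ = rep w ∘ m.g`, `m : MData`.
-/

set_option autoImplicit false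
set_option linter.unusedSectionVars false

namespace Cfsg.Agent.H607.R2

open CoxeterSystem Cfsg Cfsg.Lie Cfsg.Lie.ChevalleyDatum
open Cfsg.Agent.ChevalleyStructure Cfsg.Agent.ChevalleyStructure.Elts Cfsg.Agent.ChevalleyStructure.CoxeterGeom
  Cfsg.Agent.ChevalleyStructure.CoxeterGeomTypes Cfsg.Agent.ChevalleyStructure.NPerm
open Cfsg.Agent.Tits.Roots Cfsg.Agent.Tits.Core Cfsg.Agent.Nodes Cfsg.Agent.Nodes.Reps Cfsg.Agent.Nodes.RGDChev
open Cfsg.Agent.H378.Eng Cfsg.Agent.H165.WL Cfsg.Agent.H378.WL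
open Cfsg.Agent.H378.E6Dat (dat)
open Cfsg.Agent.H316.U6 Cfsg.Agent.H469.Exc

/-- the standard functionals, lists -/
def sdc : ℕ → Vc
  | 0 => [0, 0, 0, 0, 0, 1]
  | 1 => [0, 1, 0, 0, 0, 0]
  | _ => [1, 0, 0, 0, 0, 1]

theorem sdc_length (s : ℕ) : (sdc s).length ≤ 6 := by
  rcases s with _ | _ | s
  · decide
  · decide
  · exact le_refl 6

/-- the standard functionals: `D₅`, `A₅`, `D₄` -/
def sd (s : ℕ) : (Fin 6 → ℤ) →+ ℤ := dotF 6 (sdc s)

/-- words and types for the 25 classes -/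
def us : List (List ℕ × ℕ) :=
  [([22, 35], 0), ([19], 0), ([15, 35], 0), ([10, 34], 0), ([10], 0), ([15, 35], 0), ([15, 35], 0), ([], 0), ([], 0),
    ([], 0), ([7, 31], 1), ([15, 35], 0), ([15, 35], 0), ([15, 35], 0), ([], 0), ([13, 28], 1), ([], 0), ([13, 28], 1),
    ([34], 1), ([], 0), ([6, 32], 2), ([], 0), ([13, 28], 1), ([17, 29], 2), ([19], 2)]

/-- one class -/
def ckL (i : ℕ) : Bool :=
  let u := (us.getD i ([], 0)).1
  let c := sdc (us.getD i ([], 0)).2
  (u.all fun r => Nat.blt r dat.rts.length) && (List.range dat.rts.length).all fun r =>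
    dot c (dat.wd u (dat.gam r)) != 0 || dot c (dat.wd u (lc (dat.gam r) (dat.R i))) == 0

theorem all_ckL : ((List.range 25).all fun i => i == 21 || ckL i) = true := by decide +kernel

theorem nine21 : E6.nine (dat.R 21) = true := by decide +kernel

theorem us_lt : ((List.range 25).all fun i => Nat.blt (us.getD i ([], 0)).2 3) = true := by decide +kernel

variable {M : CoxeterMatrix (Fin 6)} (hp : IsType chevE6 6 M) {W : Type*} [Group W] (cs : CoxeterSystem M W)

/-- `1 + w³ + w⁶ = 0` -/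
def Nine {M : CoxeterMatrix (Fin 6)} (hp : IsType chevE6 6 M) {W : Type*} [Group W] (cs : CoxeterSystem M W) (w : W) : Prop :=
  ∀ x, x + rep cs hp.isCartan (w ^ 3) x + rep cs hp.isCartan (w ^ 6) x = 0

/-- **W-lemma for `E₆`**, standard form -/
theorem exists_lev (w : W) : (∃ (v : W) (s : ℕ), s < 3 ∧ ∀ x, IsRoot cs hp.isCartan x → sd s x = 0 →
      sd s (rep cs hp.isCartan v (rep cs hp.isCartan w (rep cs hp.isCartan v⁻¹ x))) = 0) ∨ Nine hp cs w := by
  obtain ⟨v, i, hi, hv⟩ := exists_conj cs hp.isCartan (T := dat) rfl E6.row H378.E6Dat.chkR H378.E6Dat.chkC w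
  have hi' : i < 25 := hi
  have hlen : (dat.R i).length ≤ 6 := by
    have h3 : (List.range 25).all (fun i => decide ((dat.R i).length ≤ 6)) = true := by decide +kernel
    rw [List.all_eq_true] at h3
    simpa using h3 i (List.mem_range.2 hi')
  by_cases h21 : i = 21
  · right
    have h3 := nine21
    rw [← h21] at h3
    unfold E6.nine at h3
    rw [List.all_eq_true] at h3
    have pw : ∀ (n : ℕ) (x : Fin 6 → ℤ), rep cs hp.isCartan v (rep cs hp.isCartan (w ^ n) (rep cs hp.isCartan v⁻¹ x)) =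
        (lin 6 (dat.R i))^[n] x := by
      intro n
      induction n with
      | zero => intro x; rw [pow_zero, map_one, Module.End.one_apply, rep_apply_inv]; rfl
      | succ n ih =>
        intro x
        rw [Function.iterate_succ_apply, ← ih, ← hv, pow_succ, rep_mul_apply, rep_inv_apply]
    have key : ∀ x : Fin 6 → ℤ, x + (lin 6 (dat.R i))^[3] x + (lin 6 (dat.R i))^[6] x = 0 := by
      intro x
      have h4 := hom_ext (φ := (AddMonoidHom.id (Fin 6 → ℤ)) +
          ((lin 6 (dat.R i)).comp ((lin 6 (dat.R i)).comp (lin 6 (dat.R i)))) +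
          ((lin 6 (dat.R i)).comp ((lin 6 (dat.R i)).comp ((lin 6 (dat.R i)).comp ((lin 6 (dat.R i)).comp
            ((lin 6 (dat.R i)).comp (lin 6 (dat.R i)))))))) (ψ := 0) (fun j => ?_) x
      · exact h4
      · have h5 := toF_veq (l := 6) (h3 j (List.mem_range.2 j.2))
        simp only [toF_vadd, toF_nil, ← lin_toF hlen, toF_bv] at h5
        rw [← add_assoc] at h5
        exact h5
    intro x
    have h4 := key (rep cs hp.isCartan v x)
    rw [← pw 3, ← pw 6, rep_inv_apply, ← map_add, ← map_add] at h4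
    have h5 := congrArg (rep cs hp.isCartan v⁻¹) h4
    rwa [rep_inv_apply, map_zero] at h5
  · left
    have h1 := all_ckL
    rw [List.all_eq_true] at h1
    have h2 := h1 i (List.mem_range.2 hi')
    rw [Bool.or_eq_true, beq_iff_eq, or_iff_right h21] at h2
    have h3 := us_lt
    rw [List.all_eq_true] at h3
    have h4 : (us.getD i ([], 0)).2 < 3 := (Nat.blt_eq ..).mp (h3 i (List.mem_range.2 hi'))
    unfold ckL at h2
    simp only [Bool.and_eq_true, List.all_eq_true] at h2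
    obtain ⟨h5, h6⟩ := h2
    set u := (us.getD i ([], 0)).1 with hu
    set s := (us.getD i ([], 0)).2 with hs
    obtain ⟨u₀, hu₀⟩ := Cfsg.Agent.H378.Eng.exists_word cs hp.isCartan (T := dat) rfl E6.row H378.E6Dat.chkR u fun r hr => (Nat.blt_eq ..).mp (h5 r hr)
    have hsd : ∀ x : Vc, sd s (toF 6 x) = dot (sdc s) x := fun x => dotF_toF (sdc_length s) x
    have key : ∀ x, IsRoot cs hp.isCartan x → sd s (rep cs hp.isCartan u₀ x) = 0 →
        sd s (rep cs hp.isCartan u₀ (lin 6 (dat.R i) x)) = 0 := by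
      intro x hx h0
      obtain ⟨b, hb, h7⟩ := exists_gam' cs hp.isCartan (T := dat) rfl E6.row H378.E6Dat.chkR hx
      obtain ⟨r, hr, e1, -⟩ := exists_lt_of_mem hb
      rw [← e1] at h7
      have h8 := h6 r (List.mem_range.2 hr)
      rw [Bool.or_eq_true, bne_iff_ne, beq_iff_eq] at h8
      have h9 : sd s (rep cs hp.isCartan u₀ (toF 6 (dat.gam r))) = 0 := by
        rcases h7 with rfl | rfl
        · exact h0
        · rwa [map_neg, map_neg, neg_eq_zero] at h0
      rw [hu₀, hsd] at h9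
      have h10 := h8.resolve_left (fun h => h h9)
      rw [← hsd, ← hu₀, ← lin_toF hlen] at h10
      rcases h7 with rfl | rfl
      · exact h10
      · rw [map_neg, map_neg, map_neg, h10, neg_zero]
    refine ⟨u₀ * v, s, h4, fun x hx h0 => ?_⟩
    have h7 := key (rep cs hp.isCartan u₀⁻¹ x) (hx.act _) (by rw [rep_apply_inv]; exact h0)
    rw [← hv] at h7
    rw [mul_inv_rev, rep_mul_apply, rep_mul_apply]
    exact h7

/-- the permutation of the fundamental roots is trivial or the graph automorphism -/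
theorem perm_cases {π : Equiv.Perm (Fin 6)} {g : (Fin 6 → ℤ) → (Fin 6 → ℤ)} (hg : ∀ v i, g v i = v (π i))
    (hr : ∀ a, IsRoot cs hp.isCartan (g a) ↔ IsRoot cs hp.isCartan a) : π = 1 ∨ ∀ i, π i = E6.pm i := by
  have h1 : ∀ i j : Fin 6, i ≠ j → (IsRoot cs hp.isCartan (sr i + sr j) ↔ cartanOf chevE6 6 i j = -1) := by
    intro i j hij
    rw [isRoot_iff hp cs]
    revert i j
    decide +kernel
  have h2 : ∀ i, g (sr i) = sr (π.symm i) := by
    intro i
    funext j
    rw [hg]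
    by_cases h : π j = i
    · rw [h, sr_self, ← h, Equiv.symm_apply_apply, sr_self]
    · rw [sr_ne h, sr_ne (fun h' => h (by rw [h', Equiv.apply_symm_apply]))]
  have hga : ∀ a b, g (a + b) = g a + g b := by
    intro a b
    funext j
    rw [hg, Pi.add_apply, Pi.add_apply, hg, hg]
  have h3 : ∀ i j : Fin 6, i ≠ j → (cartanOf chevE6 6 (π i) (π j) = -1 ↔ cartanOf chevE6 6 i j = -1) := by
    intro i j hij
    rw [← h1 i j hij, ← h1 (π i) (π j) (fun h => hij (π.injective h)), ← hr, hga, h2, h2, Equiv.symm_apply_apply,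
      Equiv.symm_apply_apply]
  have h4 : ∀ π : Equiv.Perm (Fin 6), (∀ i j : Fin 6, i ≠ j →
      (cartanOf chevE6 6 (π i) (π j) = -1 ↔ cartanOf chevE6 6 i j = -1)) → π = 1 ∨ ∀ i, π i = E6.pm i := by
    decide +kernel
  exact h4 π h3

/-- **W-lemma for `θ = rep w ∘ m.g`** -/
theorem theta_lev {r q : ℕ} [Fact r.Prime] {K₀ : Type*} [Group K₀] (m : MData hp r q K₀) (w : M.Group)
    {θ : (Fin 6 → ℤ) → (Fin 6 → ℤ)} (hθ : ∀ v, θ v = rep M.toCoxeterSystem hp.isCartan w (m.g v)) :
    (∃ (v : M.Group) (s : ℕ), s < 3 ∧ ∀ x, IsRoot M.toCoxeterSystem hp.isCartan x → sd s x = 0 →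
      sd s (rep M.toCoxeterSystem hp.isCartan v (θ (rep M.toCoxeterSystem hp.isCartan v⁻¹ x))) = 0) ∨
    ∃ u : M.Group, Nine hp M.toCoxeterSystem u ∧ ((∀ x, θ x = rep M.toCoxeterSystem hp.isCartan u x) ∨
      ∀ x, θ x = -rep M.toCoxeterSystem hp.isCartan u x) := by
  have hr : ∀ a, IsRoot M.toCoxeterSystem hp.isCartan (m.g a) ↔ IsRoot M.toCoxeterSystem hp.isCartan a := m.fr.root
  rcases perm_cases hp M.toCoxeterSystem (π := m.π) (g := fun v => m.g v) (fun v i => m.perm v i) hr with h | h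
  · have hg : ∀ v, θ v = rep M.toCoxeterSystem hp.isCartan w v := by
      intro v
      rw [hθ]
      congr 1
      funext i
      rw [m.perm, h]
      rfl
    rcases exists_lev hp M.toCoxeterSystem w with ⟨v, s, hs, h1⟩ | h1
    · left
      refine ⟨v, s, hs, fun x hx h0 => ?_⟩
      rw [hg]
      exact h1 x hx h0
    · exact Or.inr ⟨w, h1, Or.inl hg⟩
  · obtain ⟨w₀, h0⟩ := E6.exists_w0 hp M.toCoxeterSystem
    have h1 : ∀ v, m.g v = -rep M.toCoxeterSystem hp.isCartan w₀ v := by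
      intro v
      funext i
      rw [m.perm, h, Pi.neg_apply, h0, neg_neg]
    have h2 : ∀ v, θ v = -rep M.toCoxeterSystem hp.isCartan (w * w₀) v := by
      intro v
      rw [hθ, h1, map_neg, rep_mul_apply]
    rcases exists_lev hp M.toCoxeterSystem (w * w₀) with ⟨v, s, hs, h3⟩ | h3
    · left
      refine ⟨v, s, hs, fun x hx h0 => ?_⟩
      rw [h2, map_neg, map_neg, h3 x hx h0, neg_zero]
    · exact Or.inr ⟨_, h3, Or.inr h2⟩

/-- the stable set of roots -/
def LS {M : CoxeterMatrix (Fin 6)} (hp : IsType chevE6 6 M) {W : Type*} [Group W] (cs : CoxeterSystem M W) (v : W) (s : ℕ) :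
    Set (Fin 6 → ℤ) := {x | IsRoot cs hp.isCartan x ∧ sd s (rep cs hp.isCartan v x) = 0}

/-- **W-lemma for `θ = rep w ∘ m.g`**, the stable set `LS v s` -/
theorem theta_LS {r q : ℕ} [Fact r.Prime] {K₀ : Type*} [Group K₀] (m : MData hp r q K₀) (w : M.Group)
    {θ : (Fin 6 → ℤ) → (Fin 6 → ℤ)} (hθ : ∀ v, θ v = rep M.toCoxeterSystem hp.isCartan w (m.g v)) :
    (∃ (v : M.Group) (s : ℕ), s < 3 ∧ ∀ x ∈ LS hp M.toCoxeterSystem v s, θ x ∈ LS hp M.toCoxeterSystem v s) ∨
    ∃ u : M.Group, Nine hp M.toCoxeterSystem u ∧ ((∀ x, θ x = rep M.toCoxeterSystem hp.isCartan u x) ∨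
      ∀ x, θ x = -rep M.toCoxeterSystem hp.isCartan u x) := by
  rcases theta_lev hp m w hθ with ⟨v, s, hs, h⟩ | h
  · left
    refine ⟨v, s, hs, fun x hx => ⟨?_, ?_⟩⟩
    · rw [hθ]
      exact ((m.fr.root x).2 hx.1).act w
    · have h1 := h (rep M.toCoxeterSystem hp.isCartan v x) (hx.1.act v) hx.2
      rwa [rep_inv_apply] at h1
  · exact Or.inr h

theorem chkS : ((List.range 3).all fun s => let S := sel dat [(sdc s, 0)]; conn dat S (S.getLastD 0)) = true := by
  decide +kernel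

theorem inC_iff (s : ℕ) (x : Fin 6 → ℤ) : Cfsg.Agent.H378.WL.InC 6 [(sdc s, 0)] x ↔ sd s x = 0 := by
  unfold Cfsg.Agent.H378.WL.InC sd
  simp only [List.mem_singleton, forall_eq, Nat.cast_zero, zero_dvd_iff]

/-- `LS v s` is closed, symmetric, irreducible, consists of long roots, has rank `≥ 2` -/
theorem psi_LS (v : W) {s : ℕ} (hs : s < 3) {θ : (Fin 6 → ℤ) → (Fin 6 → ℤ)} (hθ : ∀ x ∈ LS hp cs v s, θ x ∈ LS hp cs v s) :
    PsiSet hp cs θ (LS hp cs v s) := by
  have h1 := chkS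
  rw [List.all_eq_true] at h1
  have h2 := h1 s (List.mem_range.2 hs)
  have h3 := psiSet hp cs rfl E6.row H378.E6Dat.chkR E6.chkN E6.full E6.top (C := [(sdc s, 0)])
    (fun c hc => by rw [List.mem_singleton.1 hc]; exact sdc_length s) h2 (θ := fun x => x)
    fun x hx hxC => ⟨hx, hxC⟩
  have h4 := h3.conj v⁻¹
  have e : rep cs hp.isCartan v⁻¹ '' {x | IsRoot cs hp.isCartan x ∧ Cfsg.Agent.H378.WL.InC 6 [(sdc s, 0)] x} = LS hp cs v s := by
    ext x
    constructor
    · rintro ⟨y, ⟨hy, hyC⟩, rfl⟩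
      refine ⟨hy.act _, ?_⟩
      rw [rep_apply_inv]
      exact (inC_iff s y).1 hyC
    · rintro ⟨hx, h0⟩
      exact ⟨rep cs hp.isCartan v x, ⟨hx.act v, (inC_iff s _).2 h0⟩, rep_inv_apply (cs := cs) (h := hp.isCartan) v x⟩
  rw [e] at h4
  exact { h4 with stable := hθ }

end Cfsg.Agent.H607.R2
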